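import Cfsg.Agent.Lib.Grp.TDd.Defs
import Cfsg.Agent.Lib.Grp.TD4.Main

set_option autoImplicit false
set_option maxRecDepth 100000
set_option linter.unusedSectionVars false

namespace Cfsg.Agent.CG.TDd
open Cfsg.Agent.DC Cfsg.Agent.Mult

/-- The derived subgroup. -/
noncomputable abbrev PG : Subgroup TD4.PG := commutator TD4.PG

theorem cyc (h : TD4.PG) : Abelianization.of h ∈ Subgroup.zpowers (Abelianization.of (TD4.act.gen 7)) :=
  ab_cyclic TD4.rels TD4.clS (xs := ab) (by decide +kernel) (by decide +kernel) h

theorem rdc : allL (fun v => eqW app bs v []) rd = true := by decide +kernel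

variable [hb : Fact (Bounds tcR tcS 634023936)]
include hb

theorem ord (k : ℤ) (h : Abelianization.of (TD4.act.gen 7) ^ k = 1) : ((3 : ℕ) : ℤ) ∣ k :=
  ab_order TD4.bounds TD4.rels TD4.clS TD4.card.ge chi (by decide +kernel) (by decide +kernel) rfl k h

theorem pow_t : TD4.act.gen 7 ^ 3 = 1 := by
  have := TD4.base.ev_eq (v := [7,7,7]) (w := []) (by decide +kernel)
  simpa [pow_succ, mul_assoc] using this

theorem mem (a : ℕ) : (actW TD4.act wds).gen a ∈ commutator TD4.PG :=
  actW_mem (R := tcR ++ rs) (TD4.base.rels (by decide +kernel)) (xs := xs) (by decide +kernel) (by decide +kernel) a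

noncomputable def act : Act PG (Fin 17199) := subAct (actW TD4.act wds) _ mem

theorem base : act.IsBase bs := subAct_base mem TD4.base

theorem card : Nat.card PG = 211341312 := card_commutator cyc ord pow_t TD4.card (by norm_num) (by norm_num)

theorem mb_up (h : MB PG []) : MB TD4.PG [] :=
  mb_of_derived TD4.clS (der_gens mem (R := rd) (base.rels rdc) (t := 7) (t' := 8) (TD4.hinv 7)
    (xs := ys) (by decide +kernel)) h

end Cfsg.Agent.CG.TDd
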