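import Cfsg.Agent.Lib.Grp.TD4.Defs
import Cfsg.Agent.Lib.DC.Der

set_option autoImplicit false
set_option maxRecDepth 100000
set_option linter.unusedSectionVars false

namespace Cfsg.Agent.CG.TDd
open Cfsg.Agent.DC Cfsg.Agent.Mult

def wds : List (List ℕ) := [[0],[1],[2],[3],[4],[5],[6],[7,0,8],[7,1,8],[7,2,8],[7,3,8],[7,4,8],[7,5,8],[7,6,8],[8,0,7],[8,1,7],[8,2,7],[8,3,7],[8,4,7],[8,5,7],[8,6,7],[9],[10],[13],[14],[15],[16],[17],[18],[19],[20],[21],[22],[25],[26],[27],[28],[29],[7,22,8]]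
noncomputable abbrev app : ℕ → ℕ → ℕ := appW TD4.app wds
noncomputable abbrev bs : List ℕ := TD4.bs
noncomputable abbrev tcR : List (List ℕ) := TD4.tcR
noncomputable abbrev tcS : List ℕ := TD4.tcS
def rs : List (List ℕ) := [[10,2,0,4,1,3],[9,10],[12,6,7,4,3],[11,12],[14,4,1,2],[13,14],[16,4,1,10],[15,16],[18,14,4,16,6],[17,18],[20,3,15,3],[19,20],[21,3,10,1],[22,6,4,5],[24,7],[23,24],[26,11,15,12],[25,26],[28,19,19,21,23,25,24,25,20],[27,28],[29,23,22,25,24],[9,10],[11,12],[13,14],[15,16],[17,18],[19,20],[21,21],[22,22],[23,24],[25,26],[27,28],[29,29]]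
def xs : List (List ℕ × List (ℤ × ℕ)) := [([0],[(16,3),((-32),5),(4,7),(4,9),((-12),11),((-11),12),(4,14),(16,19),(4,21)]),([1],[(3,3),((-7),5),(1,7),(2,9),((-4),11),((-3),12),(2,14),(3,19),(2,21),((-4),42),(2,57)]),([2],[((-3),3),(8,5),((-1),7),((-1),9),(3,11),(3,12),((-2),14),((-4),19),((-4),21),(12,42),((-6),57)]),([3],[((-1),3),(1,14),(3,21),((-12),42),(6,57)]),([4],[((-1),21),(4,42),((-2),57)]),([5],[(2,5),(1,6),((-1),28)]),([6],[((-1),5),((-1),6),(1,28)]),([7,0,8],[(16,3),((-32),5),(1,6),(4,7),(4,9),((-12),11),((-11),12),(4,14),(16,19),(4,21)]),([7,1,8],[(3,3),((-7),5),(1,6),(1,7),(2,9),((-4),11),((-3),12),(2,14),(3,19),(2,21),((-4),42),(2,57)]),([7,2,8],[((-3),3),(8,5),(1,6),((-1),7),((-1),9),(3,11),(3,12),((-2),14),((-4),19),((-4),21),(12,42),((-6),57)]),([7,3,8],[((-1),3),(1,6),(1,14),(3,21),((-12),42),(6,57)]),([7,4,8],[(1,6),((-1),21),(4,42),((-2),57)])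,([7,5,8],[(2,5),(2,6),((-1),28)]),([7,6,8],[((-1),5),(1,28)]),([8,0,7],[(16,3),((-32),5),(1,6),(4,7),(4,9),((-12),11),((-11),12),(4,14),(16,19),(4,21)]),([8,1,7],[(3,3),((-7),5),(1,6),(1,7),(2,9),((-4),11),((-3),12),(2,14),(3,19),(2,21),((-4),42),(2,57)]),([8,2,7],[((-3),3),(8,5),(1,6),((-1),7),((-1),9),(3,11),(3,12),((-2),14),((-4),19),((-4),21),(12,42),((-6),57)]),([8,3,7],[((-1),3),(1,6),(1,14),(3,21),((-12),42),(6,57)]),([8,4,7],[(1,6),((-1),21),(4,42),((-2),57)]),([8,5,7],[(2,5),(2,6),((-1),28)]),([8,6,7],[((-1),5),(1,28)]),([9],[(9,3),((-17),5),(2,7),(1,9),((-4),11),((-5),12),(1,14),(9,19),(2,21),((-1),29),(1,30)]),([10],[((-9),3),(17,5),((-2),7),((-1),9),(4,11),(5,12),((-1),14),((-9),19),((-2),21),(1,29)]),([13],[(1,5),(1,9),((-1),11),((-1),19),((-3),21),((-1),33),(1,34),(12,42),((-6),57)]),([14],[((-1),5),((-1),9),(1,11),(1,19),(3,21),(1,33),((-12),42),(6,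57)]),([15],[((-6),3),(10,5),((-1),7),(1,9),(2,12),(1,14),((-6),19),((-1),21),(1,29),((-1),35),(1,36)]),([16],[(6,3),((-10),5),(1,7),((-1),9),((-2),12),((-1),14),(6,19),(1,21),((-1),29),(1,35)]),([17],[(6,3),((-12),5),((-1),6),(1,7),((-2),9),(1,11),((-2),12),((-1),14),(7,19),(3,21),(1,28),((-1),29),(1,33),(1,35),((-1),37),(1,38),((-8),42),(4,57)]),([18],[((-6),3),(12,5),(1,6),((-1),7),(2,9),((-1),11),(2,12),(1,14),((-7),19),((-3),21),((-1),28),(1,29),((-1),33),((-1),35),(1,37),(8,42),((-4),57)]),([19],[((-8),3),(10,5),((-1),7),(1,9),(2,12),(3,14),((-6),19),(5,21),(1,29),((-1),35),(1,36),((-1),39),(1,40),((-24),42),(12,57)]),([20],[(8,3),((-10),5),(1,7),((-1),9),((-2),12),((-3),14),(6,19),((-5),21),((-1),29),(1,35),((-1),36),(1,39),(24,42),((-12),57)]),([21],[(7,3),((-10),5),(1,7),((-1),9),((-2),12),((-2),14),(6,19),((-3),21),((-1),29),(1,41),(16,42),((-8),57)]),([2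2],[((-1),5),(1,21),((-3),42),(2,57)]),([25],[((-6),3),(10,5),((-1),7),(1,9),(2,12),(1,14),((-6),19),((-1),21),(1,29),(1,32),((-1),35),(1,36),((-1),45),(1,46)]),([26],[(6,3),((-10),5),(1,7),((-1),9),((-2),12),((-1),14),(6,19),(1,21),((-1),29),((-1),32),(1,35),((-1),36),(1,45)]),([27],[((-13),3),(20,5),((-2),7),(2,9),(4,12),(3,14),((-12),19),(2,29),(2,32),((-3),35),(3,36),((-1),39),(2,40),(1,41),((-8),42),(1,44),((-2),45),(2,46),((-1),47),(1,48),(4,57)]),([28],[(13,3),((-20),5),(2,7),((-2),9),((-4),12),((-3),14),(12,19),((-2),29),((-2),32),(3,35),((-3),36),(1,39),((-2),40),((-1),41),(8,42),((-1),44),(2,45),((-2),46),(1,47),((-4),57)]),([29],[(6,3),((-9),5),(1,7),((-1),9),((-2),12),((-1),14),(6,19),((-1),29),((-1),32),(1,35),((-1),36),(3,42),((-1),44),(1,45),((-1),46),(1,49),((-2),57)]),([7,22,8],[((-1),5),(1,6),(1,21),((-3),42),(2,57)])]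
def rd : List (List ℕ) := [[1,1],[8,8],[15,15],[2,2],[9,9],[16,16],[3,3],[10,10],[17,17],[4,4],[11,11],[18,18],[5,5],[12,12],[19,19],[6,7],[13,14],[20,21],[1,2,1,2,1,2],[8,9,8,9,8,9],[15,16,15,16,15,16],[1,5,1,5],[8,12,8,12],[15,19,15,19],[2,3,2,3,2,3],[9,10,9,10,9,10],[16,17,16,17,16,17],[2,4,2,4],[9,11,9,11],[16,18,16,18],[2,5,2,5],[9,12,9,12],[16,19,16,19],[1,4,3,4,3,4,3,4,3],[8,11,10,11,10,11,10,11,10],[15,18,17,18,17,18,17,18,17],[3,5,3,5],[10,12,10,12],[17,19,17,19],[4,5,4,5,4,5],[11,12,11,12,11,12],[18,19,18,19,18,19],[2,3,4,5,2,3,4,5,2,3,4,5,2,3,4,5,2,3,4,5,2,3,4,5,2,3,4,5,2,3,4,5],[9,10,11,12,9,10,11,12,9,10,11,12,9,10,11,12,9,10,11,12,9,10,11,12,9,10,11,12,9,10,11,12],[16,17,18,19,16,17,18,19,16,17,18,19,16,17,18,19,16,17,18,19,16,17,18,19,16,17,18,19,16,17,18,19],[6,6,6,6,6,6,6],[13,13,13,13,13,13,13],[20,20,20,20,20,20,20],[7,1,6,1],[14,8,13,8],[21,15,20,15],[7,2,6,2],[14,9,13,9],[21,16,20,16],[7,3,6,3],[14,10,13,10],[21,17,20,17],[6,4,6,4],[13,11,13,11],[20,18,20,18],[5,7,5,6,7,7,7,5,6,6,6],[12,14,12,13,14,14,14,12,13,13,13],[19,21,19,20,21,21,21,19,20,20,20],[15,1],[1,8],[8,15],[16,2],[2,9],[9,16],[17,3],[3,10],[10,17],[18,4],[4,11],[11,18],[19,5],[5,12],[12,19],[20,7,7],[6,14,14],[13,21,21]]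
def ys : List (ℕ × List (ℤ × ℕ)) := [(1,[(32,8),((-52),11),(156,14),(624,17),(4,20),((-4),26),(1,33),((-12),35),(52,41),((-156),62),((-4),69),((-4),72)]),(2,[(1,5),(24,8),((-36),11),(108,14),(432,17),(3,20),((-4),26),((-9),35),(36,41),((-108),62),(1,66)]),(3,[((-8),8),(12,11),((-36),14),((-144),17),((-1),20),(1,26),(3,35),((-12),41),(36,62),(1,69)]),(4,[(1,11),((-3),14),((-12),17),((-1),41),(3,62),(1,72)]),(5,[(1,14),(4,17),((-1),62),(1,75)]),(6,[(12,11),((-2),16),((-4),17),(4,47),((-12),59),(1,79),(2,80)]),(7,[((-12),11),(1,15),(2,16),(4,17),((-4),47),(12,59),((-1),79),((-2),80)])]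
def ab : List (ℕ × ℤ × List (ℤ × ℕ)) := [(0,0,[((-32),2),(52,3),((-156),4),((-624),5),((-4),7),(4,9),(13,12),((-52),14),(156,21)]),(1,0,[((-1),1),((-24),2),(36,3),((-108),4),((-432),5),((-3),7),(4,9),(9,12),((-36),14),(108,21)]),(2,0,[(8,2),((-12),3),(36,4),(144,5),(1,7),((-1),9),((-3),12),(12,14),((-36),21)]),(3,0,[((-1),3),(3,4),(12,5),(1,14),((-3),21)]),(4,0,[((-1),4),((-4),5),(1,21)]),(5,0,[(2,5),(1,6),((-1),28)]),(6,0,[((-1),5),((-1),6),(1,28)]),(7,1,[]),(8,(-1),[(1,6)])]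
def chi (a : ℕ) : ZMod 3 := if a = 7 then 1 else if a = 8 then -1 else 0

end Cfsg.Agent.CG.TDd
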